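import Cfsg.Agent.CKS.R1a
import Cfsg.Agent.S1162
import Cfsg.Agent.S1163
import Cfsg.Agent.S2337

/-!
# Doubly transitive actions of the Suzuki groups
-/

set_option autoImplicit false

namespace Cfsg.Lib.CKS

open MulAction

namespace R1

theorem arith_sz {m n y : ℕ} (hm : 1 ≤ m) (hy : 0 < y)
    (hn : 2 ^ m * (2 ^ (2 * m + 1) - 1) + 1 ≤ n)
    (e : (2 ^ (2 * m + 1) - 1) * ((2 ^ (2 * m + 1)) ^ 2 + n) = n * (n - 1) * y) : False := by
  have hr : 2 ≤ 2 ^ m := Nat.le_self_pow (by omega) 2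
  have hq : 2 ^ (2 * m + 1) = 2 * (2 ^ m) ^ 2 := by ring
  have hc : ∀ k, Odd k → ((2 ^ (2 * m + 1)) ^ 2).Coprime k := fun k hk =>
    ((Nat.coprime_two_left.2 hk).pow_left _).pow_left _
  generalize 2 ^ (2 * m + 1) = q at *
  generalize 2 ^ m = r at *
  obtain ⟨s, rfl⟩ : ∃ s, q = s + 1 := ⟨q - 1, by have := pow_pos (show 0 < r by omega) 2; omega⟩
  obtain ⟨n, rfl⟩ : ∃ k, n = k + 1 := ⟨n - 1, by omega⟩
  simp only [Nat.add_sub_cancel, add_le_add_iff_right] at hn e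
  have hs : 7 ≤ s := by nlinarith
  rcases (show y = 1 ∨ y = 2 ∨ 3 ≤ y by omega) with rfl | rfl | h3
  · have h1 : (2 * (n + 1) - (s + 1) : ℤ) ^ 2 = (s + 1) ^ 2 * (4 * s + 1) := by
      zify at e; linear_combination (-4) * e
    obtain ⟨j, hj⟩ := (Int.pow_dvd_pow_iff two_ne_zero).1 (Dvd.intro _ h1.symm)
    rw [hj, mul_pow] at h1
    have h2 : j ^ 2 = 8 * (r : ℤ) ^ 2 - 3 := by
      zify at hq
      linear_combination mul_left_cancel₀ (by positivity) h1 + 4 * hq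
    have h3 : ∀ x : ZMod 8, x ^ 2 ≠ -3 := by decide
    refine h3 j ?_
    have := congrArg (Int.cast : ℤ → ZMod 8) h2
    push_cast at this
    rwa [show (8 : ZMod 8) = 0 from rfl, zero_mul, zero_sub] at this
  · obtain ⟨k, hk⟩ : ∃ k, 2 * n = s + k := ⟨2 * n - s, by have : s ≤ n := by nlinarith
                                                          omega⟩
    have h1 : (n + 1) * k = (s + 1) ^ 2 * s := by zify at e hk ⊢; linear_combination -e - (n + 1) * hk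
    have h2 := Nat.le_of_dvd (by omega) ((hc k (by
      rw [Nat.odd_iff]; omega)).dvd_of_dvd_mul_right (Dvd.intro _ h1.symm))
    have : s ≤ k := by nlinarith
    have h3 : k = s := by nlinarith
    nlinarith
  · have h1 : (n + 1) * (r * s) * 3 ≤ s * ((s + 1) ^ 2 + (n + 1)) := by rw [e]; gcongr
    have h2 : (n + 1) * r * 3 ≤ (s + 1) ^ 2 + (n + 1) :=
      Nat.le_of_mul_le_mul_left (c := s) (by linarith) (by omega)
    obtain ⟨t, rfl⟩ : ∃ t, r = t + 2 := ⟨r - 2, by omega⟩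
    have h4 : s = 2 * t ^ 2 + 8 * t + 7 := by linarith
    have h5 : ((t + 2) * s + 1) * (3 * t + 5) ≤ (n + 1) * (3 * t + 5) := by gcongr
    subst h4
    nlinarith [Nat.zero_le (t ^ 4), Nat.zero_le (t ^ 3), Nat.zero_le (t ^ 2)]

end R1

open R1

theorem sz {F : Type} [Field F] [Fintype F] {m : ℕ} (hm : 1 ≤ m)
    (hF : Fintype.card F = 2 ^ (2 * m + 1)) {Ω : Type*} [Finite Ω]
    [MulAction (Cfsg.Lie.Sz F (2 ^ (m + 1))) Ω] (h : Two (Cfsg.Lie.Sz F (2 ^ (m + 1))) Ω) :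
    Concl (Cfsg.Lie.Sz F (2 ^ (m + 1))) (Nat.card Ω) := by
  obtain ⟨hG, S, h1, h2, h3, -⟩ := Cfsg.Agent.S1163.result hm hF
  have hs := Cfsg.Agent.S1162.result hm hF
  have hq : 8 ≤ 2 ^ (2 * m + 1) := Nat.pow_le_pow_right (i := 3) two_pos (by omega)
  have : Finite (Cfsg.Lie.Sz F (2 ^ (m + 1))) := inferInstance
  have : Nontrivial (_ ⧸ Subgroup.normalizer ((S : Subgroup (Cfsg.Lie.Sz F (2 ^ (m + 1)))) :
      Set (Cfsg.Lie.Sz F (2 ^ (m + 1))))) := Finite.one_lt_card_iff_nontrivial.1 (by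
    rw [← Subgroup.index_eq_card, h2]; simp)
  rcases dich h (Two.of_mult h3) (QuotientGroup.mk 1) with e | e
  · exact .inr (.inr (.inr (.inl ⟨F, _, _, m, hm, hF, ⟨.refl _⟩, by
      rw [e, hF, ← h2, Subgroup.index_eq_card]⟩)))
  rw [stabilizer_quotient, h1] at e
  have h4 := minDeg h (by
    by_contra hn
    have h5 := Nat.le_of_dvd (Nat.factorial_pos _) (dvd_fact h)
    have h6 := Nat.factorial_le (show Nat.card Ω ≤ 2 by omega)
    have : 8 ^ 2 * (8 - 1) * 1 ≤ Nat.card (Cfsg.Lie.Sz F (2 ^ (m + 1))) := by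
      rw [hG]; gcongr; omega
    simp at h6 this
    omega) (Cfsg.Agent.S2337.result m hm hF)
  obtain ⟨y, h5, h6⟩ := arith Nat.prime_two (pow_mul 2 _ 2).symm e (hG ▸ dvd2 h) (by omega)
    (lt_of_lt_of_le (Nat.lt_succ_of_le (Nat.le_mul_of_pos_left _ (Nat.two_pow_pos m))) h4)
  exact (arith_sz hm h5 h4 h6).elim

end Cfsg.Lib.CKS
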