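import Cfsg.Agent.CKS.R1a
import Cfsg.Agent.S1073
import Cfsg.Agent.S1157
import Cfsg.Agent.S1158
import Cfsg.Agent.S2343
import Cfsg.Agent.S2358
import Cfsg.Agent.S2361
import Cfsg.Agent.FT.Final

/-!
# Doubly transitive actions of the small Ree groups
-/

set_option autoImplicit false

namespace Cfsg.Lib.CKS

open MulAction Cfsg.Lib.Known.Ree

namespace R1

theorem arith_ree {q n y : ℕ} (hq : 27 ≤ q) (hy : 0 < y) (hn : q ^ 2 - q + 1 + 1 ≤ n)
    (e : (q - 1) * (q ^ 3 + n) = n * (n - 1) * y) : n = q ^ 2 := by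
  obtain ⟨s, rfl⟩ : ∃ s, q = s + 1 := ⟨q - 1, by omega⟩
  obtain ⟨n, rfl⟩ : ∃ k, n = k + 1 := ⟨n - 1, by omega⟩
  rw [show (s + 1) ^ 2 - (s + 1) = s ^ 2 + s from Nat.sub_eq_of_eq_add (by ring)] at hn
  simp only [Nat.add_sub_cancel, add_le_add_iff_right] at hn e hq
  rcases (show y = 1 ∨ 2 ≤ y by omega) with rfl | h2
  · have : (n + 1 - (s + 1) ^ 2 : ℤ) * (n + 1 + (s + 1) * s) = 0 := by
      zify at e; linear_combination -e
    have := (mul_eq_zero.1 this).resolve_right (by positivity)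
    zify; linear_combination this
  · have h1 : (n + 1) * n * 2 ≤ s * ((s + 1) ^ 3 + (n + 1)) := by rw [e]; gcongr
    obtain ⟨k, rfl⟩ := Nat.exists_eq_add_of_le hn
    obtain ⟨t, rfl⟩ := Nat.exists_eq_add_of_le (show 26 ≤ s by omega)
    exfalso
    nlinarith [Nat.zero_le (t ^ 4), Nat.zero_le (t ^ 3), Nat.zero_le (t ^ 2), Nat.zero_le (k * t),
      Nat.zero_le (k * t ^ 2), Nat.zero_le (k ^ 2)]

theorem card_N3 {K : Type*} [Field K] [Fintype K] {τ : RTw K} {m : ℕ} {G : Type*} [Group G]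
    (M : ReeModel τ m G) (P : Sylow 3 G) : Nat.card (Subgroup.normalizer ((P : Subgroup G) : Set G)) =
      Fintype.card K ^ 3 * (Fintype.card K - 1) := by
  have := M.finite
  have := Fact.mk Nat.prime_three
  have e : Subgroup.normalizer ((M.sylowU : Subgroup G) : Set G) = M.B := by
    refine le_antisymm (fun g hg => by_contra fun hn => ?_) fun g hg =>
      Subgroup.mem_normalizer_fintype fun _ => M.conj_mem_U hg
    obtain ⟨a, b, c, l, x, y, z, rfl⟩ := M.exists_of_not_mem_B hn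
    have h1 : M.U ≤ Subgroup.normalizer (M.U : Set G) := Subgroup.le_normalizer
    rw [M.coe_sylowU, mul_mem_cancel_right (h1 (M.x_mem_U _ _ _)), mul_mem_cancel_left (mul_mem
      (h1 (M.x_mem_U _ _ _)) (Subgroup.mem_normalizer_fintype fun _ => M.conj_mem_U (M.h_mem_B l)))]
      at hg
    have := (Subgroup.mem_normalizer_iff.1 hg _).1 (M.x_mem_U 0 0 1)
    rw [M.w_inv] at this
    exact one_ne_zero (M.wxw_mem_B (M.U_le_B this)).2.2
  rw [← M.card_B, ← e]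
  refine Nat.eq_of_mul_eq_mul_right (Nat.card_pos (α := Sylow 3 G)) ?_
  exact ((congrArg _ P.card_eq_index_normalizer).trans (Subgroup.card_mul_index _)).trans
    ((congrArg _ M.sylowU.card_eq_index_normalizer).trans (Subgroup.card_mul_index _)).symm

end R1

open R1

theorem ree {K : Type} [Field K] [Fintype K] {m : ℕ} (hm : 1 ≤ m)
    (hK : Fintype.card K = 3 ^ (2 * m + 1)) {Ω : Type*} [Finite Ω]
    [MulAction (Cfsg.Lie.twistedG2 K (3 ^ m)) Ω] (h : Two (Cfsg.Lie.twistedG2 K (3 ^ m)) Ω) :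
    Concl (Cfsg.Lie.twistedG2 K (3 ^ m)) (Nat.card Ω) := by
  obtain ⟨τ, M, -⟩ := exists_model hK
  have := M.finite
  have hs := (Cfsg.Agent.S1073.result hm hK).1
  have hq : 27 ≤ Fintype.card K := hK ▸ Nat.pow_le_pow_right (n := 3) (i := 3) (by decide) (by omega)
  have hG := M.card_G
  rcases dich h (X := M.Pt) ⟨⟨_, _, M.pt_ne_inf 0 0 0⟩, fun _ _ _ _ => M.two_transitive⟩ M.inf with
    e | e
  · exact .inr (.inr (.inr (.inr (.inl ⟨K, _, _, m, hm, hK, ⟨.refl _⟩, e.trans M.card_Pt⟩))))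
  rw [M.stabilizer_inf, M.card_B] at e
  have h4 := minDeg h (by
    by_contra hn
    have h5 := Nat.le_of_dvd (Nat.factorial_pos _) (dvd_fact h)
    have h6 := Nat.factorial_le (show Nat.card Ω ≤ 2 by omega)
    have : 27 ^ 3 * (27 - 1) * 1 ≤ Nat.card (Cfsg.Lie.twistedG2 K (3 ^ m)) := by
      rw [hG]; gcongr; omega
    simp at h6 this
    omega) (Cfsg.Agent.S2343.result m hm hK)
  have h7 := Cfsg.Agent.S1158.result hm hK
  have h8 := Cfsg.Agent.S2358.result hm hK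
  have h9 := Cfsg.Agent.S2361.result hm hK
  have hr : 3 ^ (m + 1) ≤ Fintype.card K := hK ▸ Nat.pow_le_pow_right (by decide) (by omega)
  have ho : Odd (Fintype.card K) := hK ▸ (by decide : Odd 3).pow
  have hp : Fintype.card K ^ 3 = 3 ^ ((2 * m + 1) * 3) := by rw [hK, pow_mul]
  have h3 := card_N3 M
  have h2 := Cfsg.Agent.S1157.result hm hK
  rw [← hK] at h4 h7 h8 h9
  generalize Fintype.card K = q at *
  have hqq : q * 27 ≤ q ^ 2 := by rw [sq]; gcongr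
  obtain ⟨y, h5, h6⟩ := arith Nat.prime_three hp e (hG ▸ dvd2 h) (by omega) (by omega)
  obtain ⟨L, hL⟩ := stab2 h
  rw [arith_ree hq h5 h4 h6, hG] at hL
  obtain ⟨s, rfl⟩ : ∃ s, q = s + 1 := ⟨q - 1, by omega⟩
  have hL' : Nat.card L = (s + 1) * (s ^ 2 + s + 1) := by
    rw [show (s + 1) ^ 2 - 1 = s * (s + 2) from Nat.sub_eq_of_eq_add (by ring)] at hL
    refine Nat.eq_of_mul_eq_mul_right (m := (s + 1) ^ 2 * (s * (s + 2)))
      (by have : 0 < s := by omega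
          positivity) ?_
    rw [hL, Nat.add_sub_cancel]; ring
  obtain ⟨A, a1, a2⟩ := h9 L (FT.odd_order_solvable (by
    rw [hL']
    exact ho.mul (Even.add_one (by rw [sq, ← Nat.mul_succ]; exact Nat.even_mul_succ_self s))))
  have a3 := Subgroup.card_dvd_of_le a1
  rw [hL'] at a3
  have a4 : ∀ k, Nat.card (Subgroup.normalizer (A : Set (Cfsg.Lie.twistedG2 K (3 ^ m)))) = k →
      k ≤ 12 * (s + 2) → False := fun k h1 h2 => by
    have := (Nat.le_of_dvd Nat.card_pos a3).trans (h1.trans_le h2)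
    nlinarith
  have a5 : ∀ k N, IsCyclic A → Nat.card A = k → (k ∣ (s + 1 - 1) / 2 ∨ k ∣ (s + 1 + 1) / 4 ∨
      k ∣ s + 1 - 3 ^ (m + 1) + 1 ∨ k ∣ s + 1 + 3 ^ (m + 1) + 1) → N ≤ 12 * (s + 2) →
      (∃ A : Subgroup (Cfsg.Lie.twistedG2 K (3 ^ m)), IsCyclic A ∧ Nat.card A = k ∧
        Nat.card (Subgroup.normalizer (A : Set (Cfsg.Lie.twistedG2 K (3 ^ m)))) = N) → False := by
    rintro k N h1 h2 h3 h4 ⟨B, b1, b2, b3⟩
    obtain ⟨g, rfl⟩ := h8 k h3 B A b1 h1 b2 h2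
    refine a4 N ?_ h4
    rw [← b3]
    exact (congrArg (fun H : Subgroup _ => Nat.card H)
      (B.map_equiv_normalizer_eq (MulAut.conj g))).symm.trans (card_cj g _)
  exfalso
  rcases a2 with ⟨P, rfl⟩ | ⟨P, rfl⟩ | ⟨a2, a6 | a6 | a6 | a6⟩
  · exact a4 _ (h2 P).2 (by omega)
  · rw [h3, Nat.add_sub_cancel] at a3
    have c1 : (s ^ 2 + s + 1).Coprime s := by simp [sq, add_assoc]
    have c2 : (s ^ 2 + s + 1).Coprime (s + 1) := by
      rw [show s ^ 2 + s + 1 = 1 + s * (s + 1) by ring]; simp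
    have := (Nat.Coprime.mul_right (c2.pow_right 3) c1).eq_one_of_dvd ((Dvd.intro_left _ rfl).trans a3)
    omega
  · obtain ⟨B, b1, b2, b3, -⟩ := h7 _ (.inl rfl)
    exact a5 _ _ a2 a6 (.inl dvd_rfl) (by omega) ⟨B, b1, b2, b3⟩
  · obtain ⟨B, b1, b2, b3, -⟩ := h7 _ (.inr (.inl rfl))
    exact a5 _ _ a2 a6 (.inr (.inl dvd_rfl)) (by omega) ⟨B, b1, b2, b3⟩
  · obtain ⟨B, b1, b2, b3, -⟩ := h7 _ (.inr (.inr (.inl rfl)))
    exact a5 _ _ a2 a6 (.inr (.inr (.inl dvd_rfl))) (by generalize 3 ^ (m + 1) = r; omega) ⟨B, b1, b2, b3⟩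
  · obtain ⟨B, b1, b2, b3, -⟩ := h7 _ (.inr (.inr (.inr rfl)))
    exact a5 _ _ a2 a6 (.inr (.inr (.inr dvd_rfl))) (by omega) ⟨B, b1, b2, b3⟩

end Cfsg.Lib.CKS
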